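import Mathlib

set_option autoImplicit false
universe v u

namespace H5AbDiag

open CategoryTheory CategoryTheory.Limits

theorem main14498
    {V : Type u} [Category.{v} V] [Abelian V] {F W E' E F' G G' : V}
    (a : F ⟶ W) (b : W ⟶ E') (c : E ⟶ W) (d : W ⟶ F') (e : F' ⟶ G) (g : G ⟶ G')
    [Mono a] [Epi b] (wab : a ≫ b = 0) (hab : (ShortComplex.mk a b wab).Exact)
    [Mono c] (wcd : c ≫ d = 0) (hcd : (ShortComplex.mk c d wcd).Exact)
    (wde : d ≫ e = 0) (hde : (ShortComplex.mk d e wde).Exact)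
    (weg : e ≫ g = 0) (heg : (ShortComplex.mk e g weg).Exact) [Epi g]
    (hmono : Mono (a ≫ d)) :
    Mono (c ≫ b) ∧
      ∃ (φ : cokernel (c ≫ b) ⟶ cokernel (a ≫ d)) (ψ : cokernel (a ≫ d) ⟶ kernel g)
        (w : φ ≫ ψ = 0),
        b ≫ cokernel.π (c ≫ b) ≫ φ = d ≫ cokernel.π (a ≫ d) ∧
        cokernel.π (a ≫ d) ≫ ψ ≫ kernel.ι g = e ∧
        (ShortComplex.mk φ ψ w).ShortExact := by
  -- 1) mono
  have h1 : Mono (c ≫ b) := by
    rw [Preadditive.mono_iff_cancel_zero]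
    intro A x hx
    have hx' : (x ≫ c) ≫ b = 0 := by rw [Category.assoc]; exact hx
    have hy := hab.lift_f (x ≫ c) hx'
    set y := hab.lift (x ≫ c) hx' with hy_def
    have hy' : y ≫ a = x ≫ c := hy
    have hy0 : y ≫ (a ≫ d) = 0 := by
      rw [← Category.assoc, hy', Category.assoc, wcd, comp_zero]
    have hy00 : y = 0 := (Preadditive.mono_iff_cancel_zero (a ≫ d)).mp hmono _ y hy0
    rw [hy00, zero_comp] at hy'
    exact (Preadditive.mono_iff_cancel_zero c).mp inferInstance _ x hy'.symm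
  refine ⟨h1, ?_⟩
  -- 2) φ
  have hk : a ≫ (d ≫ cokernel.π (a ≫ d)) = 0 := by
    rw [← Category.assoc, cokernel.condition]
  set dbar : E' ⟶ cokernel (a ≫ d) := hab.desc (d ≫ cokernel.π (a ≫ d)) hk with hdbar
  have hdbar' : b ≫ dbar = d ≫ cokernel.π (a ≫ d) := hab.g_desc _ hk
  have hφ0 : (c ≫ b) ≫ dbar = 0 := by
    rw [Category.assoc, hdbar', ← Category.assoc, wcd, zero_comp]
  set φ : cokernel (c ≫ b) ⟶ cokernel (a ≫ d) := cokernel.desc (c ≫ b) dbar hφ0 with hφ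
  have hφ' : cokernel.π (c ≫ b) ≫ φ = dbar := cokernel.π_desc _ _ _
  -- 3) ψ
  set ebar : F' ⟶ kernel g := kernel.lift g e weg with hebar
  have hebar' : ebar ≫ kernel.ι g = e := kernel.lift_ι _ _ _
  have hψ0 : (a ≫ d) ≫ ebar = 0 := by
    rw [← cancel_mono (kernel.ι g), Category.assoc, hebar', Category.assoc, wde, comp_zero,
      zero_comp]
  set ψ : cokernel (a ≫ d) ⟶ kernel g := cokernel.desc (a ≫ d) ebar hψ0 with hψ
  have hψ' : cokernel.π (a ≫ d) ≫ ψ = ebar := cokernel.π_desc _ _ _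
  have e1 : b ≫ cokernel.π (c ≫ b) ≫ φ = d ≫ cokernel.π (a ≫ d) := by
    rw [hφ', hdbar']
  have e2 : cokernel.π (a ≫ d) ≫ ψ ≫ kernel.ι g = e := by
    rw [← Category.assoc, hψ', hebar']
  have hdebar : d ≫ ebar = 0 := by
    rw [← cancel_mono (kernel.ι g), Category.assoc, hebar', wde, zero_comp]
  have w : φ ≫ ψ = 0 := by
    rw [← cancel_epi (cokernel.π (c ≫ b)), ← cancel_epi b, comp_zero, comp_zero,
      ← Category.assoc, ← Category.assoc, Category.assoc b, e1, Category.assoc, hψ', hdebar]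
  refine ⟨φ, ψ, w, e1, e2, ?_⟩
  -- epi ψ
  have hepi_ebar : Epi ebar := heg.epi_kernelLift
  have hepiψ : Epi ψ := epi_of_epi_fac hψ'
  -- mono φ
  have hexπ' : (ShortComplex.mk (a ≫ d) (cokernel.π (a ≫ d)) (cokernel.condition _)).Exact :=
    ShortComplex.exact_of_g_is_cokernel _ (cokernelIsCokernel _)
  have hmonoφ : Mono φ := by
    rw [Preadditive.mono_iff_cancel_zero]
    intro A x hx
    obtain ⟨A1, p1, hp1, w1, hw1⟩ :=
      surjective_up_to_refinements_of_epi (b ≫ cokernel.π (c ≫ b)) x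
    have hw1d : (w1 ≫ d) ≫ cokernel.π (a ≫ d) = 0 := by
      rw [Category.assoc, ← e1, ← Category.assoc, ← Category.assoc, Category.assoc w1, ← hw1,
        Category.assoc, hx, comp_zero]
    obtain ⟨A2, p2, hp2, y, hy⟩ := hexπ'.exact_up_to_refinements (w1 ≫ d) hw1d
    dsimp at y hy
    have hz : (p2 ≫ w1 - y ≫ a) ≫ d = 0 := by
      rw [Preadditive.sub_comp, Category.assoc, hy, Category.assoc, sub_self]
    obtain ⟨A3, p3, hp3, u, hu⟩ := hcd.exact_up_to_refinements _ hz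
    dsimp at u hu
    have hfinal : (p3 ≫ p2 ≫ p1) ≫ x = 0 := by
      have hw : p2 ≫ w1 = (p2 ≫ w1 - y ≫ a) + y ≫ a := by abel
      calc (p3 ≫ p2 ≫ p1) ≫ x = p3 ≫ p2 ≫ (p1 ≫ x) := by simp only [Category.assoc]
        _ = p3 ≫ p2 ≫ (w1 ≫ b ≫ cokernel.π (c ≫ b)) := by rw [hw1]
        _ = p3 ≫ (p2 ≫ w1) ≫ b ≫ cokernel.π (c ≫ b) := by simp only [Category.assoc]
        _ = p3 ≫ ((p2 ≫ w1 - y ≫ a) + y ≫ a) ≫ b ≫ cokernel.π (c ≫ b) := by rw [← hw]
        _ = (p3 ≫ (p2 ≫ w1 - y ≫ a)) ≫ b ≫ cokernel.π (c ≫ b)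
            + p3 ≫ y ≫ (a ≫ b) ≫ cokernel.π (c ≫ b) := by
              simp only [Preadditive.add_comp, Preadditive.comp_add, Category.assoc]
        _ = (u ≫ c) ≫ b ≫ cokernel.π (c ≫ b) + 0 := by
              rw [hu, wab, zero_comp, comp_zero, comp_zero]
        _ = 0 := by
              rw [add_zero, Category.assoc, ← Category.assoc c, cokernel.condition, comp_zero]
    haveI : Epi (p3 ≫ p2 ≫ p1) := epi_comp' hp3 (epi_comp' hp2 hp1)
    exact (cancel_epi (p3 ≫ p2 ≫ p1)).mp (by rw [hfinal, comp_zero])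
  -- exact
  have hex : (ShortComplex.mk φ ψ w).Exact := by
    rw [ShortComplex.exact_iff_exact_up_to_refinements]
    intro A x hx
    dsimp at x hx
    obtain ⟨A1, p1, hp1, v, hv⟩ := surjective_up_to_refinements_of_epi (cokernel.π (a ≫ d)) x
    have hve : v ≫ e = 0 := by
      have : v ≫ e = (p1 ≫ x) ≫ ψ ≫ kernel.ι g := by
        rw [hv, Category.assoc, e2]
      rw [this, Category.assoc, ← Category.assoc x, hx, zero_comp, comp_zero]
    obtain ⟨A2, p2, hp2, w2, hw2⟩ := hde.exact_up_to_refinements v hve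
    dsimp at w2 hw2
    refine ⟨A2, p2 ≫ p1, epi_comp' hp2 hp1, w2 ≫ b ≫ cokernel.π (c ≫ b), ?_⟩
    dsimp
    rw [Category.assoc, hv, ← Category.assoc, hw2, Category.assoc, Category.assoc, Category.assoc,
      e1]
  exact { exact := hex, mono_f := hmonoφ, epi_g := hepiψ }

end H5AbDiag
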