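import Mathlib

set_option autoImplicit false
open Matrix

namespace H5BddFin

/-- Cayley–Hamilton for `2×2` integer matrices of determinant one -/
lemma sq_eq (M : Matrix (Fin 2) (Fin 2) ℤ) (hdet : M.det = 1) : M * M = M.trace • M - 1 := by
  rw [Matrix.det_fin_two] at hdet
  ext i j
  fin_cases i <;> fin_cases j <;>
    simp only [Matrix.mul_apply, Fin.sum_univ_two, Matrix.trace_fin_two, Matrix.sub_apply,
      Matrix.smul_apply, smul_eq_mul, Matrix.one_apply, Fin.zero_eta, Fin.mk_one, Fin.isValue,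
      if_true, if_false, one_ne_zero, zero_ne_one, reduceCtorEq] <;>
    first | linear_combination (-1 : ℤ) * hdet | (simp; linear_combination (-1 : ℤ) * hdet) | ring | (simp; ring)

lemma pow_succ_succ (M : Matrix (Fin 2) (Fin 2) ℤ) (hdet : M.det = 1) (n : ℕ) :
    M ^ (n + 2) = M.trace • M ^ (n + 1) - M ^ n := by
  rw [pow_add, pow_two, sq_eq M hdet, mul_sub, mul_one, Matrix.mul_smul, ← pow_succ]

lemma trace_pow_succ_succ (M : Matrix (Fin 2) (Fin 2) ℤ) (hdet : M.det = 1) (n : ℕ) :
    (M ^ (n + 2)).trace = M.trace * (M ^ (n + 1)).trace - (M ^ n).trace := by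
  rw [pow_succ_succ M hdet, Matrix.trace_sub, Matrix.trace_smul, smul_eq_mul]

lemma trace_growth (M : Matrix (Fin 2) (Fin 2) ℤ) (hdet : M.det = 1) (ht : 3 ≤ M.trace) (n : ℕ) :
    (n : ℤ) + 2 ≤ (M ^ n).trace ∧ (M ^ n).trace + 1 ≤ (M ^ (n + 1)).trace := by
  induction n with
  | zero =>
    simp [Matrix.trace_fin_two] at *
    linarith
  | succ n ih =>
    obtain ⟨h1, h2⟩ := ih
    refine ⟨by push_cast; linarith, ?_⟩
    rw [trace_pow_succ_succ M hdet]
    nlinarith

lemma trace_le_two (M : Matrix (Fin 2) (Fin 2) ℤ) (hdet : M.det = 1) (n : ℕ) (hn : 0 < n)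
    (hM : M ^ n = 1) : M.trace ≤ 2 := by
  by_contra h
  have ht : 3 ≤ M.trace := by omega
  have := (trace_growth M hdet ht n).1
  rw [hM] at this
  simp [Matrix.trace_fin_two] at this
  omega

lemma trace_sq (M : Matrix (Fin 2) (Fin 2) ℤ) (hdet : M.det = 1) :
    (M * M).trace = M.trace ^ 2 - 2 := by
  rw [sq_eq M hdet, Matrix.trace_sub, Matrix.trace_smul, smul_eq_mul]
  simp [Matrix.trace_fin_two]
  ring

lemma neg_two_le_trace (M : Matrix (Fin 2) (Fin 2) ℤ) (hdet : M.det = 1) (n : ℕ) (hn : 0 < n)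
    (hM : M ^ n = 1) : -2 ≤ M.trace := by
  have h1 : (M * M).det = 1 := by rw [Matrix.det_mul, hdet, mul_one]
  have h2 : (M * M) ^ n = 1 := by rw [← pow_two, ← pow_mul, mul_comm, pow_mul, hM, one_pow]
  have h3 := trace_le_two (M * M) h1 n hn h2
  rw [trace_sq M hdet] at h3
  nlinarith

lemma eq_one_of_trace_eq_two (M : Matrix (Fin 2) (Fin 2) ℤ) (hdet : M.det = 1) (n : ℕ) (hn : 0 < n)
    (hM : M ^ n = 1) (ht : M.trace = 2) : M = 1 := by
  have hN : (M - 1) * (M - 1) = 0 := by
    have := sq_eq M hdet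
    rw [ht] at this
    rw [sub_mul, mul_sub, mul_sub, this]
    simp only [mul_one, one_mul]
    rw [two_smul]
    abel
  have hgen : ∀ (N : Matrix (Fin 2) (Fin 2) ℤ), N * N = 0 → ∀ m : ℕ, (1 + N) ^ m = 1 + m • N := by
    intro N hN m
    induction m with
    | zero => simp
    | succ m ih =>
      rw [pow_succ, ih, add_mul, mul_add, mul_add, one_mul, mul_one, smul_mul_assoc, hN, smul_zero,
        add_zero, succ_nsmul, one_mul]
      abel
  have hpow : ∀ m : ℕ, M ^ m = 1 + m • (M - 1) := by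
    intro m
    have := hgen (M - 1) hN m
    rwa [add_sub_cancel] at this
  have h1 := hpow n
  rw [hM] at h1
  have h2 : n • (M - 1) = 0 := by
    have := h1
    rw [left_eq_add] at this
    exact this
  have h3 : M - 1 = 0 := by
    ext i j
    have := congrFun (congrFun h2 i) j
    simp only [Matrix.smul_apply, Matrix.zero_apply, smul_eq_mul, nsmul_eq_mul] at this
    rcases mul_eq_zero.mp this with h | h
    · exfalso; have : (n : ℤ) ≠ 0 := by exact_mod_cast hn.ne'
      exact this h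
    · simpa using h
  exact sub_eq_zero.mp h3

end H5BddFin
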