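import Groth.Agent.Lib.Helper5.Misc.BddFinA

set_option autoImplicit false
open Matrix

namespace H5BddFin

lemma smul_eq_zero_of_fixed (M : Matrix (Fin 2) (Fin 2) ℤ) (hdet : M.det = 1) (d : ℕ)
    (w : Fin 2 → ZMod d) (h : (M.map (Int.castRingHom (ZMod d))) *ᵥ w = w) :
    ((2 - M.trace : ℤ) : ZMod d) • w = 0 := by
  rw [Matrix.det_fin_two] at hdet
  have hd : ((M 0 0 : ℤ) : ZMod d) * (M 1 1 : ℤ) - (M 0 1 : ℤ) * (M 1 0 : ℤ) = 1 := by
    have := congrArg (Int.cast : ℤ → ZMod d) hdet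
    push_cast at this
    exact this
  have h0 := congrFun h 0
  have h1 := congrFun h 1
  simp only [Matrix.mulVec, dotProduct, Fin.sum_univ_two, Matrix.map_apply, Int.coe_castRingHom] at h0 h1
  rw [Matrix.trace_fin_two]
  ext i
  fin_cases i
  · simp only [Fin.zero_eta, Fin.isValue, Pi.smul_apply, smul_eq_mul, Pi.zero_apply]
    push_cast
    linear_combination ((M 1 1 : ZMod d) - 1) * h0 - (M 0 1 : ZMod d) * h1 - w 0 * hd
  · simp only [Fin.mk_one, Fin.isValue, Pi.smul_apply, smul_eq_mul, Pi.zero_apply]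
    push_cast
    linear_combination ((M 0 0 : ZMod d) - 1) * h1 - (M 1 0 : ZMod d) * h0 - w 1 * hd

lemma det_eq_one_or (γ : Matrix.GeneralLinearGroup (Fin 2) ℤ) :
    (γ : Matrix (Fin 2) (Fin 2) ℤ).det = 1 ∨ (γ : Matrix (Fin 2) (Fin 2) ℤ).det = -1 := by
  have h1 : IsUnit (γ : Matrix (Fin 2) (Fin 2) ℤ) := γ.isUnit
  rw [Matrix.isUnit_iff_isUnit_det] at h1
  exact Int.isUnit_iff.mp h1

theorem main15163 (Γ : Subgroup (Matrix.GeneralLinearGroup (Fin 2) ℤ)) [Finite Γ] (d : ℕ)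
    (hd : 6 < d) (w : Fin 2 → ZMod d) (hw : ∀ m : ℕ, 0 < m → m < d → m • w ≠ 0)
    (hfix : ∀ γ ∈ Γ, ((γ : Matrix (Fin 2) (Fin 2) ℤ).map (Int.castRingHom (ZMod d))) *ᵥ w = w) :
    ∃ v : Fin 2 → ℤ, v ≠ 0 ∧ ∀ γ ∈ Γ, (γ : Matrix (Fin 2) (Fin 2) ℤ) *ᵥ v = v := by
  -- every element of determinant one is trivial
  have key : ∀ γ ∈ Γ, (γ : Matrix (Fin 2) (Fin 2) ℤ).det = 1 → γ = 1 := by
    intro γ hγ hdet
    by_contra hne
    obtain ⟨n, hn, hpow⟩ : ∃ n : ℕ, 0 < n ∧ (γ : Matrix (Fin 2) (Fin 2) ℤ) ^ n = 1 := by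
      have hfin : IsOfFinOrder (⟨γ, hγ⟩ : Γ) := isOfFinOrder_of_finite _
      refine ⟨orderOf (⟨γ, hγ⟩ : Γ), hfin.orderOf_pos, ?_⟩
      have h1 := pow_orderOf_eq_one (⟨γ, hγ⟩ : Γ)
      have h2 : γ ^ orderOf (⟨γ, hγ⟩ : Γ) = 1 := by
        have := congrArg (fun x : Γ => (x : Matrix.GeneralLinearGroup (Fin 2) ℤ)) h1
        simpa using this
      rw [← Units.val_pow_eq_pow_val, h2]
      rfl
    set M := (γ : Matrix (Fin 2) (Fin 2) ℤ) with hM
    have h1 := trace_le_two M hdet n hn hpow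
    have h2 := neg_two_le_trace M hdet n hn hpow
    have h3 : M.trace ≠ 2 := by
      intro ht
      have := eq_one_of_trace_eq_two M hdet n hn hpow ht
      apply hne
      exact Units.ext this
    have h4 := smul_eq_zero_of_fixed M hdet d w (hfix γ hγ)
    have h5 : ((2 - M.trace).toNat : ℤ) = 2 - M.trace := Int.toNat_of_nonneg (by omega)
    refine hw (2 - M.trace).toNat (by omega) (by omega) ?_
    rw [← Nat.cast_smul_eq_nsmul (ZMod d), ← Int.cast_natCast, h5]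
    exact h4
  by_cases hΓ : ∃ γ ∈ Γ, γ ≠ 1
  · obtain ⟨γ₀, hγ₀, hne⟩ := hΓ
    have hdet₀ : (γ₀ : Matrix (Fin 2) (Fin 2) ℤ).det = -1 := by
      rcases det_eq_one_or γ₀ with h | h
      · exact absurd (key γ₀ hγ₀ h) hne
      · exact h
    have hsq : γ₀ * γ₀ = 1 := by
      apply key _ (Γ.mul_mem hγ₀ hγ₀)
      rw [Matrix.GeneralLinearGroup.coe_mul, Matrix.det_mul, hdet₀]
      norm_num
    set M₀ := (γ₀ : Matrix (Fin 2) (Fin 2) ℤ) with hM₀
    have hsqM : M₀ * M₀ = 1 := by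
      have := congrArg (fun x : Matrix.GeneralLinearGroup (Fin 2) ℤ =>
        (x : Matrix (Fin 2) (Fin 2) ℤ)) hsq
      simpa using this
    have hall : ∀ γ ∈ Γ, γ = 1 ∨ γ = γ₀ := by
      intro γ hγ
      rcases det_eq_one_or γ with h | h
      · left; exact key γ hγ h
      · right
        have h1 : γ * γ₀ = 1 := by
          apply key _ (Γ.mul_mem hγ hγ₀)
          rw [Matrix.GeneralLinearGroup.coe_mul, Matrix.det_mul, hdet₀, h]
          norm_num
        exact mul_right_cancel (h1.trans hsq.symm)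
    have hfixv : ∀ e : Fin 2 → ℤ, M₀ *ᵥ ((M₀ + 1) *ᵥ e) = (M₀ + 1) *ᵥ e := by
      intro e
      rw [Matrix.mulVec_mulVec, mul_add, hsqM, mul_one, add_comm]
    have hex : ∃ e : Fin 2 → ℤ, (M₀ + 1) *ᵥ e ≠ 0 := by
      by_contra hcon
      push Not at hcon
      have hz : M₀ + 1 = 0 := by
        ext i j
        have := congrFun (hcon (Pi.single j 1)) i
        simpa using this
      have hM₀' : M₀ = -1 := eq_neg_of_add_eq_zero_left hz
      rw [hM₀', Matrix.det_neg, Matrix.det_one] at hdet₀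
      norm_num at hdet₀
    obtain ⟨e, he⟩ := hex
    refine ⟨(M₀ + 1) *ᵥ e, he, ?_⟩
    intro γ hγ
    rcases hall γ hγ with rfl | rfl
    · simp
    · exact hfixv e
  · push Not at hΓ
    refine ⟨![1, 0], ?_, ?_⟩
    · intro h
      have := congrFun h 0
      simp at this
    · intro γ hγ
      rw [hΓ γ hγ]
      simp

end H5BddFin
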