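import Mathlib

set_option autoImplicit false
universe u v w

namespace Groth.Agent.H5.DiagMon

open DirectSum

theorem finite_range_attractorIdeal (R : Type u) [CommRing R] (A : Type v) [CommRing A]
    [Algebra R A] [Algebra.FiniteType R A] (M : Type w) [AddCommMonoid M] [DecidableEq M]
    (𝒜 : M → Submodule R A) [GradedAlgebra 𝒜] :
    (Set.range fun N : AddSubmonoid M => Ideal.span {a : A | ∃ m : M, m ∉ N ∧ a ∈ 𝒜 m}).Finite := by
  classical
  obtain ⟨s, hs⟩ := (Algebra.FiniteType.out : (⊤ : Subalgebra R A).FG)
  -- homogeneous generators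
  let T : Finset A := s.biUnion (fun a => (decompose 𝒜 a).support.image
    (fun i => (decompose 𝒜 a i : A)))
  have hThom : ∀ t ∈ T, ∃ i, t ∈ 𝒜 i := by
    intro t ht
    simp only [T, Finset.mem_biUnion, Finset.mem_image] at ht
    obtain ⟨a, -, i, -, rfl⟩ := ht
    exact ⟨i, (decompose 𝒜 a i).2⟩
  have hTgen : Algebra.adjoin R (T : Set A) = ⊤ := by
    rw [eq_top_iff, ← hs]
    apply Algebra.adjoin_le
    intro a ha
    rw [← DirectSum.sum_support_decompose 𝒜 a]
    apply Subalgebra.sum_mem
    intro i hi
    apply Algebra.subset_adjoin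
    simp only [T, Finset.coe_biUnion, Finset.coe_image, Set.mem_iUnion, Set.mem_image]
    exact ⟨a, ha, i, hi, rfl⟩
  -- the ideal only depends on a subset of T
  have key : ∀ N : AddSubmonoid M,
      Ideal.span {a : A | ∃ m : M, m ∉ N ∧ a ∈ 𝒜 m} =
        Ideal.span ((T.filter (fun t => ∃ m : M, m ∉ N ∧ t ∈ 𝒜 m) : Finset A) : Set A) := by
    intro N
    set I := Ideal.span ((T.filter (fun t => ∃ m : M, m ∉ N ∧ t ∈ 𝒜 m) : Finset A) : Set A)
      with hI
    apply le_antisymm
    · -- main inclusion
      have P : ∀ x : A, ∀ m : M, m ∉ N → (decompose 𝒜 x m : A) ∈ I := by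
        intro x
        have hx : x ∈ Algebra.adjoin R (T : Set A) := by rw [hTgen]; trivial
        induction hx using Algebra.adjoin_induction with
        | mem t ht =>
          intro m hm
          obtain ⟨i, hi⟩ := hThom t ht
          by_cases hmi : m = i
          · subst hmi
            rw [DirectSum.decompose_of_mem_same 𝒜 hi]
            apply Ideal.subset_span
            simp only [Finset.coe_filter, Set.mem_setOf_eq]
            exact ⟨ht, m, hm, hi⟩
          · rw [DirectSum.decompose_of_mem_ne 𝒜 hi (Ne.symm hmi)]
            exact I.zero_mem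
        | algebraMap r =>
          intro m hm
          have h0 : algebraMap R A r ∈ 𝒜 0 := SetLike.GradedMonoid.toGradedOne.one_mem |> fun h1 => by
            rw [Algebra.algebraMap_eq_smul_one]
            exact Submodule.smul_mem _ _ h1
          have hm0 : (0 : M) ≠ m := fun h => hm (h ▸ N.zero_mem)
          rw [DirectSum.decompose_of_mem_ne 𝒜 h0 hm0]
          exact I.zero_mem
        | add x y _ _ hx hy =>
          intro m hm
          rw [DirectSum.decompose_add, DirectSum.add_apply, Submodule.coe_add]
          exact I.add_mem (hx m hm) (hy m hm)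
        | mul x y _ _ hx hy =>
          intro m hm
          rw [DirectSum.decompose_mul, DirectSum.coe_mul_apply]
          apply Ideal.sum_mem
          intro ij hij
          simp only [Finset.mem_filter] at hij
          have hsum : ij.1 + ij.2 = m := hij.2
          by_cases h1 : ij.1 ∈ N
          · have h2 : ij.2 ∉ N := fun h2 => hm (hsum ▸ N.add_mem h1 h2)
            exact I.mul_mem_left _ (hy _ h2)
          · exact I.mul_mem_right _ (hx _ h1)
      apply Ideal.span_le.mpr
      rintro a ⟨m, hm, ha⟩
      have := P a m hm
      rwa [DirectSum.decompose_of_mem_same 𝒜 ha] at this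
    · apply Ideal.span_mono
      intro t ht
      simp only [Finset.coe_filter, Set.mem_setOf_eq] at ht
      exact ht.2
  apply Set.Finite.subset ((T.powerset.image (fun T' : Finset A => Ideal.span (T' : Set A))).finite_toSet)
  rintro _ ⟨N, rfl⟩
  simp only [Finset.coe_image, Set.mem_image, Finset.mem_coe, Finset.mem_powerset]
  exact ⟨_, Finset.filter_subset _ _, (key N).symm⟩

end Groth.Agent.H5.DiagMon
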