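import Mathlib

set_option autoImplicit false

namespace H5Euler

open Finset

/-- partial alternating sums of binomial coefficients -/
theorem alt_sum (d n : ℕ) :
    ∑ j ∈ range (n + 1), (-1 : ℤ) ^ j * ((d + 1).choose j : ℤ) = (-1 : ℤ) ^ n * (d.choose n : ℤ) := by
  induction n with
  | zero => simp
  | succ n ih =>
    rw [sum_range_succ, ih, Nat.choose_succ_succ' d n]
    push_cast
    ring

/-- `p ∤ C(d-1, p^i - 1)` when `p^i ∣ d`. -/
theorem not_dvd_choose (p i d : ℕ) (hp : p.Prime) (hd : 1 ≤ d) (hdvd : p ^ i ∣ d) :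
    ¬ p ∣ (d - 1).choose (p ^ i - 1) := by
  have hpi : 0 < p ^ i := pow_pos hp.pos i
  have hle : p ^ i ≤ d := Nat.le_of_dvd hd hdvd
  have hk : p ^ i - 1 ≤ d - 1 := by omega
  have h := hp.emultiplicity_choose hk (Nat.lt_succ_self (Nat.log p (d - 1)))
  have hempty : {l ∈ Ico 1 (Nat.log p (d - 1)).succ |
      p ^ l ≤ (p ^ i - 1) % p ^ l + (d - 1 - (p ^ i - 1)) % p ^ l} = ∅ := by
    rw [Finset.filter_eq_empty_iff]
    intro l hl
    rw [not_le]
    have hpl : 0 < p ^ l := pow_pos hp.pos l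
    have hsub : d - 1 - (p ^ i - 1) = d - p ^ i := by omega
    rw [hsub]
    obtain ⟨m, rfl⟩ := hdvd
    have hm : 1 ≤ m := by
      rcases Nat.eq_zero_or_pos m with h0 | h0
      · subst h0; simp at hd
      · exact h0
    have hsub2 : p ^ i * m - p ^ i = p ^ i * (m - 1) := by
      rw [Nat.mul_sub, mul_one]
    rw [hsub2]
    rcases le_or_gt l i with hli | hli
    · have hdv : p ^ l ∣ p ^ i * (m - 1) := Dvd.dvd.mul_right (pow_dvd_pow p hli) _
      rw [Nat.mod_eq_zero_of_dvd hdv, add_zero]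
      exact Nat.mod_lt _ hpl
    · obtain ⟨c, rfl⟩ := Nat.exists_eq_add_of_lt hli
      have hpl' : p ^ (i + c + 1) = p ^ i * p ^ (c + 1) := by rw [add_assoc, pow_add]
      rw [hpl', Nat.mul_mod_mul_left]
      have h1 : (p ^ i - 1) % (p ^ i * p ^ (c + 1)) = p ^ i - 1 := by
        apply Nat.mod_eq_of_lt
        have : 1 ≤ p ^ (c + 1) := pow_pos hp.pos _
        have h5 : p ^ i ≤ p ^ i * p ^ (c + 1) := Nat.le_mul_of_pos_right _ this
        omega
      rw [h1]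
      have h2 : (m - 1) % p ^ (c + 1) ≤ p ^ (c + 1) - 1 := by
        have := Nat.mod_lt (m - 1) (pow_pos hp.pos (c + 1))
        omega
      have h3 : p ^ i * ((m - 1) % p ^ (c + 1)) ≤ p ^ i * (p ^ (c + 1) - 1) :=
        Nat.mul_le_mul_left _ h2
      have h4 : p ^ i * (p ^ (c + 1) - 1) = p ^ i * p ^ (c + 1) - p ^ i := by
        rw [Nat.mul_sub, mul_one]
      have h5 : p ^ i ≤ p ^ i * p ^ (c + 1) := Nat.le_mul_of_pos_right _ (pow_pos hp.pos _)
      omega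
  rw [hempty, Finset.card_empty] at h
  have h0 : emultiplicity p ((d - 1).choose (p ^ i - 1)) = 0 := by exact_mod_cast h
  exact emultiplicity_eq_zero.mp h0

/-- `C(d, p^i) = (d / p^i) * C(d-1, p^i-1)` when `p^i ∣ d`. -/
theorem choose_pow_eq (p i d : ℕ) (hp : p.Prime) (hd : 1 ≤ d) (hdvd : p ^ i ∣ d) :
    d.choose (p ^ i) = d / p ^ i * (d - 1).choose (p ^ i - 1) := by
  have hpi : 0 < p ^ i := pow_pos hp.pos i
  have h := Nat.add_one_mul_choose_eq (d - 1) (p ^ i - 1)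
  rw [Nat.sub_add_cancel hd, Nat.sub_add_cancel hpi] at h
  apply Nat.eq_of_mul_eq_mul_right hpi
  rw [← h]
  have e : d / p ^ i * p ^ i = d := Nat.div_mul_cancel hdvd
  symm
  calc d / p ^ i * (d - 1).choose (p ^ i - 1) * p ^ i
      = (d / p ^ i * p ^ i) * (d - 1).choose (p ^ i - 1) := by ring
    _ = d * (d - 1).choose (p ^ i - 1) := by rw [e]

/-- `d / gcd(d,j)` divides `C(d,j)`. -/
theorem div_gcd_dvd_choose (d j : ℕ) (hd : 1 ≤ d) (hj : 1 ≤ j) :
    d / Nat.gcd d j ∣ d.choose j := by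
  have hg : 0 < Nat.gcd d j := Nat.gcd_pos_of_pos_left _ hd
  have h := Nat.add_one_mul_choose_eq (d - 1) (j - 1)
  rw [Nat.sub_add_cancel hd, Nat.sub_add_cancel hj] at h
  -- d * C(d-1,j-1) = C(d,j) * j
  have hcop : Nat.Coprime (d / Nat.gcd d j) (j / Nat.gcd d j) := Nat.coprime_div_gcd_div_gcd hg
  have h1 : d / Nat.gcd d j ∣ d.choose j * (j / Nat.gcd d j) := by
    have e1 : d / Nat.gcd d j * Nat.gcd d j = d := Nat.div_mul_cancel (Nat.gcd_dvd_left d j)
    have e2 : j / Nat.gcd d j * Nat.gcd d j = j := Nat.div_mul_cancel (Nat.gcd_dvd_right d j)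
    have h2 : Nat.gcd d j * (d / Nat.gcd d j * (d - 1).choose (j - 1))
        = Nat.gcd d j * (d.choose j * (j / Nat.gcd d j)) := by
      calc Nat.gcd d j * (d / Nat.gcd d j * (d - 1).choose (j - 1))
          = (d / Nat.gcd d j * Nat.gcd d j) * (d - 1).choose (j - 1) := by ring
        _ = d.choose j * (j / Nat.gcd d j * Nat.gcd d j) := by rw [e1, e2, h]
        _ = Nat.gcd d j * (d.choose j * (j / Nat.gcd d j)) := by ring
    have h3 := Nat.eq_of_mul_eq_mul_left hg h2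
    exact ⟨_, h3.symm⟩
  exact hcop.dvd_of_dvd_mul_right h1

/-- the key equivalence over ℕ -/
theorem nat_key (d N : ℕ) (hd : 1 ≤ d) (g : ℕ) :
    (∀ j ∈ Icc 1 N, g ∣ d.choose j) ↔ (∀ δ ∈ (Icc 1 N).filter (fun δ => δ ∣ d), g ∣ d / δ) := by
  constructor
  · intro h δ hδ
    rw [mem_filter, mem_Icc] at hδ
    obtain ⟨⟨hδ1, hδN⟩, hδd⟩ := hδ
    have hdδ : 0 < d / δ := Nat.div_pos (Nat.le_of_dvd hd hδd) hδ1
    rw [Nat.dvd_iff_prime_pow_dvd_dvd]
    intro p a hp hpa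
    -- i = multiplicity of p in δ
    set i := δ.factorization p with hi
    have hpiδ : p ^ i ∣ δ := Nat.ordProj_dvd δ p
    have hpid : p ^ i ∣ d := hpiδ.trans hδd
    have hpi : 0 < p ^ i := pow_pos hp.pos i
    have hmem : p ^ i ∈ Icc 1 N := by
      rw [mem_Icc]
      exact ⟨hpi, (Nat.le_of_dvd hδ1 hpiδ).trans hδN⟩
    have h1 : p ^ a ∣ d.choose (p ^ i) := hpa.trans (h _ hmem)
    rw [choose_pow_eq p i d hp hd hpid] at h1
    have hcop : Nat.Coprime (p ^ a) ((d - 1).choose (p ^ i - 1)) := by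
      apply Nat.Coprime.pow_left
      exact (Nat.Prime.coprime_iff_not_dvd hp).mpr (not_dvd_choose p i d hp hd hpid)
    have h2 : p ^ a ∣ d / p ^ i := hcop.dvd_of_dvd_mul_right h1
    -- d / p^i = (d/δ) * (δ / p^i)
    have e : d / p ^ i = d / δ * (δ / p ^ i) := by
      obtain ⟨m, rfl⟩ := hδd
      obtain ⟨c, hc⟩ := hpiδ
      have hc' : δ / p ^ i = c := by rw [hc]; exact Nat.mul_div_cancel_left _ hpi
      rw [Nat.mul_div_cancel_left _ hδ1, hc']
      conv_lhs => rw [hc, mul_assoc, Nat.mul_div_cancel_left _ hpi]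
      ring
    rw [e] at h2
    have hcop2 : Nat.Coprime (p ^ a) (δ / p ^ i) := by
      apply Nat.Coprime.pow_left
      exact (Nat.Prime.coprime_iff_not_dvd hp).mpr (Nat.not_dvd_ordCompl hp (by omega))
    exact hcop2.dvd_of_dvd_mul_right h2
  · intro h j hj
    rw [mem_Icc] at hj
    have hg : 0 < Nat.gcd d j := Nat.gcd_pos_of_pos_left _ hd
    have hmem : Nat.gcd d j ∈ (Icc 1 N).filter (fun δ => δ ∣ d) := by
      rw [mem_filter, mem_Icc]
      exact ⟨⟨hg, (Nat.le_of_dvd hj.1 (Nat.gcd_dvd_right d j)).trans hj.2⟩, Nat.gcd_dvd_left d j⟩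
    exact (h _ hmem).trans (div_gcd_dvd_choose d j hd hj.1)

/-- χ -/
theorem chi_key (d N : ℕ) (hd : 1 ≤ d) (z : ℤ) :
    (∀ n ∈ Icc 1 N, z ∣ 1 - (-1 : ℤ) ^ n * ((d - 1).choose n : ℤ)) ↔
      (∀ j ∈ Icc 1 N, z ∣ (d.choose j : ℤ)) := by
  obtain ⟨d', rfl⟩ : ∃ d', d = d' + 1 := ⟨d - 1, by omega⟩
  simp only [Nat.add_sub_cancel]
  have hχ : ∀ n, 1 - (-1 : ℤ) ^ n * (d'.choose n : ℤ)
      = - ∑ j ∈ Icc 1 n, (-1 : ℤ) ^ j * ((d' + 1).choose j : ℤ) := by
    intro n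
    rw [← alt_sum d' n, Finset.range_eq_Ico, Finset.sum_eq_sum_Ico_succ_bot (by omega)]
    simp only [pow_zero, Nat.choose_zero_right, Nat.cast_one, mul_one, zero_add]
    have : Ico 1 (n + 1) = Icc 1 n := by
      ext x; simp only [mem_Ico, mem_Icc]; omega
    rw [this]; ring
  constructor
  · intro h j hj
    rw [mem_Icc] at hj
    have h1 := h j (mem_Icc.mpr hj)
    rw [hχ] at h1
    have h2 : z ∣ ∑ i ∈ Icc 1 (j - 1), (-1 : ℤ) ^ i * ((d' + 1).choose i : ℤ) := by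
      rcases Nat.eq_or_lt_of_le hj.1 with h0 | h0
      · rw [← h0]; simp
      · have := h (j - 1) (mem_Icc.mpr ⟨by omega, by omega⟩)
        rw [hχ] at this
        exact (dvd_neg.mp this)
    have h3 : ∑ i ∈ Icc 1 j, (-1 : ℤ) ^ i * ((d' + 1).choose i : ℤ)
        = ∑ i ∈ Icc 1 (j - 1), (-1 : ℤ) ^ i * ((d' + 1).choose i : ℤ)
          + (-1 : ℤ) ^ j * ((d' + 1).choose j : ℤ) := by
      have : Icc 1 j = insert j (Icc 1 (j - 1)) := by
        ext x; simp only [mem_Icc, mem_insert]; omega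
      rw [this, sum_insert (by simp only [mem_Icc]; omega)]
      ring
    rw [h3, dvd_neg] at h1
    have h4 := (dvd_add_right h2).mp h1
    rcases neg_one_pow_eq_or ℤ j with hs | hs
    · rw [hs, one_mul] at h4; exact h4
    · rw [hs, neg_one_mul, dvd_neg] at h4; exact h4
  · intro h n hn
    rw [hχ, dvd_neg]
    apply Finset.dvd_sum
    intro j hj
    rw [mem_Icc] at hj hn
    exact Dvd.dvd.mul_left (h j (mem_Icc.mpr ⟨hj.1, hj.2.trans hn.2⟩)) _

theorem main17781 (d N : ℕ) (hd : 1 ≤ d) (hN : 1 ≤ N) :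
    (Finset.Icc 1 N).gcd (fun n => 1 - (-1 : ℤ) ^ n * ((d - 1).choose n : ℤ)) =
      ((Finset.Icc 1 N).filter (fun δ => δ ∣ d)).gcd (fun δ => ((d / δ : ℕ) : ℤ)) := by
  have key : ∀ z : ℤ, (∀ n ∈ Icc 1 N, z ∣ 1 - (-1 : ℤ) ^ n * ((d - 1).choose n : ℤ)) ↔
      (∀ δ ∈ (Icc 1 N).filter (fun δ => δ ∣ d), z ∣ ((d / δ : ℕ) : ℤ)) := by
    intro z
    rw [chi_key d N hd z]
    have := nat_key d N hd z.natAbs
    simp only [Int.natAbs_dvd_natAbs.symm, Int.natAbs_natCast] 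
    simpa only [← Int.natAbs_dvd_natAbs, Int.natAbs_natCast] using this
  apply dvd_antisymm_of_normalize_eq (Finset.normalize_gcd) (Finset.normalize_gcd)
  · apply Finset.dvd_gcd
    exact (key _).mp (fun n hn => Finset.gcd_dvd hn)
  · apply Finset.dvd_gcd
    exact (key _).mpr (fun n hn => Finset.gcd_dvd hn)

end H5Euler
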