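import Mathlib

set_option autoImplicit false
universe u

namespace H5GIT

variable {α : Type u} [DecidableEq α]

/-- key: least index with the same colour -/
noncomputable def key {n : ℕ} (x : Fin n → α) (k : Fin n) : Fin n :=
  (Finset.univ.filter fun l => x l = x k).min' ⟨k, by simp⟩

theorem x_key {n : ℕ} (x : Fin n → α) (k : Fin n) : x (key x k) = x k := by
  have := Finset.min'_mem (Finset.univ.filter fun l => x l = x k) ⟨k, by simp⟩
  rw [Finset.mem_filter] at this
  exact this.2

theorem key_congr {n : ℕ} (x : Fin n → α) {k l : Fin n} (h : x k = x l) : key x k = key x l := by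
  unfold key
  congr 1
  · ext m; simp [h]

theorem x_eq_of_key_eq {n : ℕ} (x : Fin n → α) {k l : Fin n} (h : key x k = key x l) :
    x k = x l := by
  rw [← x_key x k, ← x_key x l, h]

/-- after sorting by key, two positions at distance `≥ e` have different colours. -/
theorem far_ne (e : ℕ) (x : Fin (2 * e + 1) → α)
    (hx : ∀ a : α, (Finset.univ.filter fun k => x k = a).card ≤ e)
    (q q' : Fin (2 * e + 1)) (hqq : (q : ℕ) + e ≤ q') :
    x (Tuple.sort (key x) q) ≠ x (Tuple.sort (key x) q') := by
  intro heq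
  set σ := Tuple.sort (key x) with hσ
  have hmono : Monotone (key x ∘ σ) := Tuple.monotone_sort (key x)
  have hk : key x (σ q) = key x (σ q') := key_congr x heq
  have hall : ∀ r : Fin (2 * e + 1), q ≤ r → r ≤ q' → x (σ r) = x (σ q) := by
    intro r h1 h2
    apply x_eq_of_key_eq
    apply le_antisymm
    · have := hmono h2
      simp only [Function.comp] at this
      rw [hk]; exact this
    · exact hmono h1
  have hsub : (Finset.Icc q q').map σ.toEmbedding ⊆ Finset.univ.filter fun k => x k = x (σ q) := by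
    intro m hm
    simp only [Finset.mem_map, Finset.mem_Icc, Equiv.coe_toEmbedding] at hm
    obtain ⟨r, ⟨h1, h2⟩, rfl⟩ := hm
    simp [hall r h1 h2]
  have hcard := Finset.card_le_card hsub
  rw [Finset.card_map, Fin.card_Icc] at hcard
  have := hx (x (σ q))
  omega

/-- the partner map on positions -/
def tau (e : ℕ) (q : Fin (2 * e + 1)) : Fin (2 * e + 1) :=
  if (q : ℕ) = 0 then ⟨e, by omega⟩
  else if (q : ℕ) = e then ⟨2 * e, by omega⟩
  else if (q : ℕ) = 2 * e then ⟨0, by omega⟩
  else if h : (q : ℕ) < e then ⟨q + e, by omega⟩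
  else ⟨q - e, by omega⟩

theorem tau_val (e : ℕ) (q : Fin (2 * e + 1)) :
    ((tau e q : Fin (2 * e + 1)) : ℕ) =
      if (q : ℕ) = 0 then e else if (q : ℕ) = e then 2 * e else if (q : ℕ) = 2 * e then 0
      else if (q : ℕ) < e then q + e else q - e := by
  unfold tau
  split_ifs <;> rfl

theorem tau_injective (e : ℕ) (he : 1 ≤ e) : Function.Injective (tau e) := by
  intro q q' h
  have h' := congrArg (fun z : Fin (2 * e + 1) => (z : ℕ)) h
  simp only [tau_val] at h'
  apply Fin.ext
  have hq := q.2
  have hq' := q'.2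
  split_ifs at h' <;> omega

theorem tau_far (e : ℕ) (he : 1 ≤ e) (q : Fin (2 * e + 1)) :
    ((tau e q : Fin (2 * e + 1)) : ℕ) + e ≤ q ∨ (q : ℕ) + e ≤ (tau e q : Fin (2 * e + 1)) := by
  rw [tau_val]
  have hq := q.2
  split_ifs <;> omega

theorem main19390 (e : ℕ) (he : 1 ≤ e)
    (x : Fin (2 * e + 1) → α)
    (hx : ∀ a : α, (Finset.univ.filter fun k => x k = a).card ≤ e) :
    ∃ i j : Fin (2 * e + 1) → Fin (2 * e + 1),
      (∀ m : Fin (2 * e + 1),
        (Finset.univ.filter fun k => i k = m).card + (Finset.univ.filter fun k => j k = m).card = 2) ∧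
      (∀ k, x (i k) ≠ x (j k)) ∧
      i 0 = j 2 ∧ i 1 = j 0 ∧ i 2 = j 1 := by
  classical
  set σ := Tuple.sort (key x) with hσ
  let T : Equiv.Perm (Fin (2 * e + 1)) :=
    Equiv.ofBijective (tau e) (Finite.injective_iff_bijective.mp (tau_injective e he))
  let p1 : Fin (2 * e + 1) := ⟨1, by omega⟩
  let pe : Fin (2 * e + 1) := ⟨e, by omega⟩
  let p2 : Fin (2 * e + 1) := ⟨2, by omega⟩
  let p2e : Fin (2 * e + 1) := ⟨2 * e, by omega⟩
  let I : Equiv.Perm (Fin (2 * e + 1)) := (Equiv.swap p2 p2e).trans (Equiv.swap p1 pe)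
  have cardone : ∀ (E : Equiv.Perm (Fin (2 * e + 1))) (m : Fin (2 * e + 1)),
      (Finset.univ.filter fun k => E k = m).card = 1 := by
    intro E m
    rw [Finset.card_eq_one]
    refine ⟨E.symm m, ?_⟩
    ext k
    simp only [Finset.mem_filter, Finset.mem_univ, true_and, Finset.mem_singleton]
    constructor
    · intro h; rw [← h]; simp
    · intro h; rw [h]; simp
  have hI0 : I 0 = 0 := by
    have h1 : Equiv.swap p2 p2e (0 : Fin (2 * e + 1)) = 0 := by
      apply Equiv.swap_apply_of_ne_of_ne
      · intro h; have := congrArg (fun z : Fin (2 * e + 1) => (z : ℕ)) h; simp [p2] at this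
      · intro h; have := congrArg (fun z : Fin (2 * e + 1) => (z : ℕ)) h; simp [p2e] at this; omega
    have h2 : Equiv.swap p1 pe (0 : Fin (2 * e + 1)) = 0 := by
      apply Equiv.swap_apply_of_ne_of_ne
      · intro h; have := congrArg (fun z : Fin (2 * e + 1) => (z : ℕ)) h; simp [p1] at this
      · intro h; have := congrArg (fun z : Fin (2 * e + 1) => (z : ℕ)) h; simp [pe] at this; omega
    simp only [I, Equiv.trans_apply, h1, h2]
  have hI1 : I 1 = pe := by
    have e1 : (1 : Fin (2 * e + 1)) = p1 := by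
      apply Fin.ext; simp [p1]; omega
    rw [e1]
    by_cases h : e = 1
    · have h2e : p2 = p2e := by apply Fin.ext; simp [p2, p2e, h]
      have h1e : p1 = pe := by apply Fin.ext; simp [p1, pe, h]
      simp only [I, Equiv.trans_apply, h2e, h1e, Equiv.swap_self, Equiv.refl_apply]
    · have h1 : Equiv.swap p2 p2e p1 = p1 := by
        apply Equiv.swap_apply_of_ne_of_ne
        · intro h; have := congrArg (fun z : Fin (2 * e + 1) => (z : ℕ)) h; simp [p1, p2] at this
        · intro h; have := congrArg (fun z : Fin (2 * e + 1) => (z : ℕ)) h; simp [p1, p2e] at this; omega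
      simp only [I, Equiv.trans_apply, h1, Equiv.swap_apply_left]
  have hI2 : I 2 = p2e := by
    have e2 : (2 : Fin (2 * e + 1)) = p2 := by
      apply Fin.ext
      simp only [p2]
      change (2 : ℕ) % (2 * e + 1) = 2
      apply Nat.mod_eq_of_lt; omega
    rw [e2]
    have h1 : Equiv.swap p1 pe p2e = p2e := by
      apply Equiv.swap_apply_of_ne_of_ne
      · intro h; have := congrArg (fun z : Fin (2 * e + 1) => (z : ℕ)) h; simp only [p1, p2e] at this; omega
      · intro h; have := congrArg (fun z : Fin (2 * e + 1) => (z : ℕ)) h; simp only [pe, p2e] at this; omega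
    simp only [I, Equiv.trans_apply, Equiv.swap_apply_left, h1]
  have hT0 : T 0 = pe := by
    apply Fin.ext
    change ((tau e 0 : Fin (2 * e + 1)) : ℕ) = e
    rw [tau_val]; simp
  have hTe : T pe = p2e := by
    apply Fin.ext
    change ((tau e pe : Fin (2 * e + 1)) : ℕ) = 2 * e
    rw [tau_val]; simp only [pe]
    split_ifs <;> omega
  have hT2e : T p2e = 0 := by
    apply Fin.ext
    change ((tau e p2e : Fin (2 * e + 1)) : ℕ) = ((0 : Fin (2 * e + 1)) : ℕ)
    rw [tau_val]; simp only [p2e, Fin.val_zero]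
    split_ifs <;> omega
  refine ⟨fun k => σ (I k), fun k => σ (T (I k)), ?_, ?_, ?_, ?_, ?_⟩
  · intro m
    have h1 := cardone (I.trans σ) m
    have h2 := cardone ((I.trans T).trans σ) m
    simp only [Equiv.trans_apply] at h1 h2
    rw [h1, h2]
  · intro k
    rcases tau_far e he (I k) with h | h
    · exact (far_ne e x hx (T (I k)) (I k) h).symm
    · exact far_ne e x hx (I k) (T (I k)) h
  · change σ (I 0) = σ (T (I 2)); rw [hI0, hI2, hT2e]
  · change σ (I 1) = σ (T (I 0)); rw [hI1, hI0, hT0]
  · change σ (I 2) = σ (T (I 1)); rw [hI2, hI1, hTe]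

end H5GIT
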