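import Mathlib

set_option autoImplicit false
universe v u

namespace H5IndCof

open CategoryTheory CategoryTheory.Limits

variable {V : Type u} [Category.{v} V] [Abelian V]

/-- descent of a factorization through a mono along an epi refinement -/
theorem factors_of_refine {S B A A' : V} (i : S ⟶ B) [Mono i] (y : A ⟶ B) (π : A' ⟶ A) [Epi π]
    (s : A' ⟶ S) (h : π ≫ y = s ≫ i) : ∃ y' : A ⟶ S, y' ≫ i = y := by
  have h0 : y ≫ cokernel.π i = 0 := by
    rw [← cancel_epi π, comp_zero, ← Category.assoc, h, Category.assoc, cokernel.condition,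
      comp_zero]
  exact ⟨Abelian.monoLift i y h0, Abelian.monoLift_comp i y h0⟩

theorem nsmul_id_comp {X Y : V} (k : ℕ) (f : X ⟶ Y) : (k • 𝟙 X) ≫ f = f ≫ (k • 𝟙 Y) := by
  rw [Preadditive.nsmul_comp, Preadditive.comp_nsmul, Category.id_comp, Category.comp_id]

theorem nsmul_id_mul (X : V) (j k : ℕ) : ((j * k) • 𝟙 X) = (j • 𝟙 X) ≫ (k • 𝟙 X) := by
  rw [Preadditive.nsmul_comp, Preadditive.comp_nsmul, Category.id_comp, mul_smul]

/-- (F1) a `k`-divisible subobject is contained in the image of `k`. -/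
theorem le_image_of_epi {B : V} (D : Subobject B) (k : ℕ) (hk : Epi (k • 𝟙 (D : V))) :
    D ≤ imageSubobject (k • 𝟙 B) := by
  obtain ⟨y', hy'⟩ := factors_of_refine (imageSubobject (k • 𝟙 B)).arrow D.arrow (k • 𝟙 (D : V))
    (D.arrow ≫ factorThruImageSubobject (k • 𝟙 B)) (by
      rw [Category.assoc, imageSubobject_arrow_comp, nsmul_id_comp])
  exact Subobject.le_of_comm y' hy'

/-- if `M` kills the cokernel of `B'`, then `M • 𝟙 B` factors through `B'`. -/
theorem exists_lift_of_killed {B : V} (B' : Subobject B) (M : ℕ)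
    (hM : M • 𝟙 (cokernel B'.arrow) = 0) : ∃ ℓ : B ⟶ (B' : V), ℓ ≫ B'.arrow = M • 𝟙 B := by
  have h0 : (M • 𝟙 B) ≫ cokernel.π B'.arrow = 0 := by
    rw [nsmul_id_comp, hM, comp_zero]
  exact ⟨Abelian.monoLift B'.arrow _ h0, Abelian.monoLift_comp _ _ h0⟩

/-- if `B'` is divisible and `M` kills `B/B'`, then `image (j) = B'` for every positive multiple `j` of `M`. -/
theorem image_eq {B : V} (B' : Subobject B) (hdiv : ∀ k : ℕ, 0 < k → Epi (k • 𝟙 (B' : V)))
    (M : ℕ) (hM : M • 𝟙 (cokernel B'.arrow) = 0) (j : ℕ) (hj : 0 < j) (hMj : M ∣ j) :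
    imageSubobject (j • 𝟙 B) = B' := by
  apply le_antisymm
  · obtain ⟨ℓ, hℓ⟩ := exists_lift_of_killed B' M hM
    obtain ⟨t, rfl⟩ := hMj
    refine imageSubobject_le _ ((t • 𝟙 B) ≫ ℓ) ?_
    rw [Category.assoc, hℓ, ← nsmul_id_mul, mul_comm]
  · exact le_image_of_epi B' j (hdiv j hj)

theorem main14497 (B : V) :
    ((∀ n : ℕ, 0 < n → ∃ m : ℕ, 0 < m ∧ n ∣ m ∧ ∀ m' : ℕ, 0 < m' → m ∣ m' →
        imageSubobject ((m' / n) • 𝟙 B) = imageSubobject ((m / n) • 𝟙 B)) ↔
      ∃ B' : Subobject B, (∀ k : ℕ, 0 < k → Epi (k • 𝟙 (B' : V))) ∧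
        ∃ M : ℕ, 0 < M ∧ M • 𝟙 (cokernel B'.arrow) = 0) ∧
    (∀ B' : Subobject B, (∀ k : ℕ, 0 < k → Epi (k • 𝟙 (B' : V))) →
      (∃ M : ℕ, 0 < M ∧ M • 𝟙 (cokernel B'.arrow) = 0) →
      ∀ D : Subobject B, (∀ k : ℕ, 0 < k → Epi (k • 𝟙 (D : V))) → D ≤ B') := by
  refine ⟨⟨?_, ?_⟩, ?_⟩
  · intro hML
    obtain ⟨m, hm0, -, hm⟩ := hML 1 Nat.one_pos
    simp only [Nat.div_one] at hm
    set B' := imageSubobject (m • 𝟙 B) with hB'
    refine ⟨B', ?_, m, hm0, ?_⟩
    · intro k hk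
      rw [epi_iff_surjective_up_to_refinements]
      intro A y
      have heq : imageSubobject ((m * k) • 𝟙 B) = B' :=
        hm (m * k) (Nat.mul_pos hm0 hk) (Dvd.intro k rfl)
      have hle : B' ≤ imageSubobject ((m * k) • 𝟙 B) := heq.ge
      obtain ⟨A', π, hπ, z, hz⟩ := surjective_up_to_refinements_of_epi
        (factorThruImageSubobject ((m * k) • 𝟙 B)) (y ≫ Subobject.ofLE _ _ hle)
      refine ⟨A', π, hπ, z ≫ factorThruImageSubobject (m • 𝟙 B), ?_⟩
      rw [← cancel_mono B'.arrow]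
      have h1 : (π ≫ y) ≫ B'.arrow = z ≫ ((m * k) • 𝟙 B) := by
        have := congrArg (fun f => f ≫ (imageSubobject ((m * k) • 𝟙 B)).arrow) hz
        simp only [Category.assoc, Subobject.ofLE_arrow, imageSubobject_arrow_comp] at this
        rw [Category.assoc]; exact this
      rw [h1, Category.assoc, Category.assoc, nsmul_id_comp, imageSubobject_arrow_comp_assoc,
        ← nsmul_id_mul]
    · rw [← cancel_epi (cokernel.π B'.arrow), comp_zero, ← nsmul_id_comp,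
        ← imageSubobject_arrow_comp (m • 𝟙 B), Category.assoc, cokernel.condition, comp_zero]
  · rintro ⟨B', hdiv, M, hM0, hM⟩ n hn
    refine ⟨n * M, Nat.mul_pos hn hM0, Dvd.intro M rfl, ?_⟩
    intro m' hm' hdvd
    obtain ⟨t, rfl⟩ := hdvd
    have ht : 0 < t := by
      rcases Nat.eq_zero_or_pos t with h | h
      · subst h; simp at hm'
      · exact h
    rw [Nat.mul_div_cancel_left M hn, mul_assoc, Nat.mul_div_cancel_left _ hn,
      image_eq B' hdiv M hM (M * t) (Nat.mul_pos hM0 ht) (Dvd.intro t rfl),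
      image_eq B' hdiv M hM M hM0 dvd_rfl]
  · rintro B' hdiv ⟨M, hM0, hM⟩ D hD
    rw [← image_eq B' hdiv M hM M hM0 dvd_rfl]
    exact le_image_of_epi D M (hD M hM0)

end H5IndCof
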