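import Mathlib

set_option autoImplicit false
universe u v

namespace H5MovLem

open Polynomial

section DegC

variable {R : Type*} [CommRing R] {A : Type*} [CommRing A] [Algebra R A]

/-- `P` has degree at most `n`, with coefficient `algebraMap c` at `n`. -/
def DegC (P : Polynomial A) (n : ℕ) (c : R) : Prop :=
  P.natDegree ≤ n ∧ P.coeff n = algebraMap R A c

theorem DegC.mul {P Q : Polynomial A} {n m : ℕ} {c d : R} (hP : DegC P n c) (hQ : DegC Q m d) :
    DegC (P * Q) (n + m) (c * d) := by
  refine ⟨natDegree_mul_le_of_le hP.1 hQ.1, ?_⟩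
  rw [coeff_mul_add_eq_of_natDegree_le hP.1 hQ.1, hP.2, hQ.2, map_mul]

theorem DegC.one : DegC (1 : Polynomial A) 0 (1 : R) := by
  refine ⟨by simp, by simp⟩

theorem DegC.pow {P : Polynomial A} {n : ℕ} {c : R} (hP : DegC P n c) (e : ℕ) :
    DegC (P ^ e) (n * e) (c ^ e) := by
  induction e with
  | zero => simpa using (DegC.one (R := R) (A := A))
  | succ e ih =>
    rw [pow_succ, pow_succ, Nat.mul_succ]
    exact ih.mul hP

theorem DegC.prod {ι : Type*} (S : Finset ι) (P : ι → Polynomial A) (n : ι → ℕ) (c : ι → R)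
    (h : ∀ i ∈ S, DegC (P i) (n i) (c i)) :
    DegC (∏ i ∈ S, P i) (∑ i ∈ S, n i) (∏ i ∈ S, c i) := by
  classical
  induction S using Finset.induction_on with
  | empty => simpa using (DegC.one (R := R) (A := A))
  | insert a S ha ih =>
    rw [Finset.prod_insert ha, Finset.sum_insert ha, Finset.prod_insert ha]
    exact (h a (Finset.mem_insert_self a S)).mul
      (ih (fun i hi => h i (Finset.mem_insert_of_mem hi)))

theorem DegC.coeff_of_lt {P : Polynomial A} {n n' : ℕ} {c : R} (hP : DegC P n c) (h : n < n') :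
    P.coeff n' = 0 :=
  coeff_eq_zero_of_natDegree_lt (lt_of_le_of_lt hP.1 h)

end DegC

section Main

variable {k : Type u} [Field k] {K : Type v} [Field K] [Algebra k K] {r : ℕ}

/-- the substitution `x_i ↦ x_i + g_i t^N` -/
noncomputable def Φ (g : Fin r → K) (N : ℕ) :
    MvPolynomial (Fin r) k →ₐ[k] Polynomial (MvPolynomial (Fin r) K) :=
  MvPolynomial.aeval (fun i : Fin r =>
    Polynomial.C (MvPolynomial.X i) + Polynomial.C (MvPolynomial.C (g i)) * Polynomial.X ^ N)

theorem degC_gen (g : Fin r → K) (N : ℕ) (hN : 1 ≤ N) (i : Fin r) :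
    DegC (R := K) (Polynomial.C (MvPolynomial.X i) + Polynomial.C (MvPolynomial.C (g i)) * Polynomial.X ^ N :
      Polynomial (MvPolynomial (Fin r) K)) N (g i) := by
  constructor
  · apply natDegree_add_le_of_degree_le
    · rw [natDegree_C]; omega
    · exact (natDegree_C_mul_X_pow_le _ _)
  · rw [coeff_add, coeff_C, if_neg (by omega), zero_add, coeff_C_mul, coeff_X_pow, if_pos rfl,
      mul_one, MvPolynomial.algebraMap_eq]

theorem degC_monomial (g : Fin r → K) (N : ℕ) (hN : 1 ≤ N) (μ : Fin r →₀ ℕ) (c : k) :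
    DegC (R := K) (Φ g N (MvPolynomial.monomial μ c)) (N * μ.degree)
      (algebraMap k K c * ∏ i, g i ^ μ i) := by
  unfold Φ
  rw [MvPolynomial.aeval_monomial]
  have h1 : DegC (R := K) (algebraMap k (Polynomial (MvPolynomial (Fin r) K)) c) 0
      (algebraMap k K c) := by
    constructor
    · rw [Polynomial.algebraMap_apply, natDegree_C]
    · rw [Polynomial.algebraMap_apply, coeff_C_zero, MvPolynomial.algebraMap_apply,
        MvPolynomial.algebraMap_eq]
  have h2 := DegC.prod (R := K) (A := MvPolynomial (Fin r) K) Finset.univ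
    (fun i : Fin r => (Polynomial.C (MvPolynomial.X i) +
      Polynomial.C (MvPolynomial.C (g i)) * Polynomial.X ^ N :
      Polynomial (MvPolynomial (Fin r) K)) ^ μ i) (fun i => N * μ i) (fun i => g i ^ μ i)
    (fun i _ => (degC_gen g N hN i).pow (μ i))
  have h3 := h1.mul h2
  have e1 : μ.prod (fun i e => (Polynomial.C (MvPolynomial.X i) +
      Polynomial.C (MvPolynomial.C (g i)) * Polynomial.X ^ N :
      Polynomial (MvPolynomial (Fin r) K)) ^ e) = ∏ i, (Polynomial.C (MvPolynomial.X i) +
      Polynomial.C (MvPolynomial.C (g i)) * Polynomial.X ^ N :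
      Polynomial (MvPolynomial (Fin r) K)) ^ μ i := by
    rw [Finsupp.prod_fintype]
    intro i; simp
  have e2 : N * μ.degree = 0 + ∑ i, N * μ i := by
    rw [zero_add, ← Finset.mul_sum, Finsupp.degree_eq_sum]
  rw [e1, e2]
  exact h3

/-- Key lemma: degree bound and top coefficient of `Φ a`. -/
theorem degC_Φ (g : Fin r → K) (N : ℕ) (hN : 1 ≤ N) (a : MvPolynomial (Fin r) k) (d : ℕ)
    (hd : a.totalDegree ≤ d) :
    DegC (R := K) (Φ g N a) (N * d) (MvPolynomial.aeval g (MvPolynomial.homogeneousComponent d a)) := by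
  classical
  have hsum : Φ g N a = ∑ μ ∈ a.support, Φ g N (MvPolynomial.monomial μ (MvPolynomial.coeff μ a)) := by
    conv_lhs => rw [a.as_sum]
    rw [map_sum]
  have hdeg : ∀ μ ∈ a.support, μ.degree ≤ d := by
    intro μ hμ
    exact le_trans (MvPolynomial.le_totalDegree hμ) hd
  rw [hsum]
  constructor
  · apply natDegree_sum_le_of_forall_le
    intro μ hμ
    exact ((degC_monomial g N hN μ _).1).trans (Nat.mul_le_mul_left _ (hdeg μ hμ))
  · rw [finsetSum_coeff, MvPolynomial.homogeneousComponent_apply, map_sum, map_sum,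
      Finset.sum_filter]
    apply Finset.sum_congr rfl
    intro μ hμ
    split_ifs with hμd
    · rw [← hμd, (degC_monomial g N hN μ _).2, MvPolynomial.aeval_monomial,
        Finsupp.prod_fintype _ _ (by intro i; simp)]
    · have hlt : μ.degree < d := lt_of_le_of_ne (hdeg μ hμ) hμd
      rw [(degC_monomial g N hN μ _).coeff_of_lt (Nat.mul_lt_mul_of_pos_left hlt hN)]

end Main

end H5MovLem
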