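import Mathlib
import Groth.Agent.Lib.Helper5.Misc.MovLemA

set_option autoImplicit false
universe u v

namespace H5MovLem

open Polynomial

theorem core15078
    {k : Type u} [Field k] (r m : ℕ)
    (f : Polynomial (MvPolynomial (Fin r) k)) (hf : f ≠ 0) :
    ∃ h : MvPolynomial (Fin r) k, h ≠ 0 ∧ ∃ s₀ : ℕ, ∀ s : ℕ, s₀ ≤ s →
      ∀ (K : Type v) [Field K] [Algebra k K] (g : Fin r → K), MvPolynomial.aeval g h ≠ 0 →
        ∃ c : K, c ≠ 0 ∧
          (Polynomial.eval₂ (MvPolynomial.aeval (fun i : Fin r => Polynomial.C (MvPolynomial.X i) + Polynomial.C (MvPolynomial.C (g i)) * Polynomial.X ^ (s * (m + 1))) : MvPolynomial (Fin r) k →ₐ[k] Polynomial (MvPolynomial (Fin r) K)).toRingHom Polynomial.X f).leadingCoeff = MvPolynomial.C c ∧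
          f.natDegree ≤ (Polynomial.eval₂ (MvPolynomial.aeval (fun i : Fin r => Polynomial.C (MvPolynomial.X i) + Polynomial.C (MvPolynomial.C (g i)) * Polynomial.X ^ (s * (m + 1))) : MvPolynomial (Fin r) k →ₐ[k] Polynomial (MvPolynomial (Fin r) K)).toRingHom Polynomial.X f).natDegree := by
  classical
  have hS : f.support.Nonempty := by
    rw [Finset.nonempty_iff_ne_empty, Ne, Polynomial.support_eq_empty]; exact hf
  set td : ℕ → ℕ := fun j => (f.coeff j).totalDegree with htd
  set D := f.support.sup td with hD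
  obtain ⟨j0, hj0S, hj0⟩ := Finset.exists_mem_eq_sup f.support hS td
  have hS' : (f.support.filter (fun j => td j = D)).Nonempty :=
    ⟨j0, by rw [Finset.mem_filter]; exact ⟨hj0S, hj0.symm⟩⟩
  set jstar := (f.support.filter (fun j => td j = D)).max' hS' with hjstar
  have hjs_mem : jstar ∈ f.support.filter (fun j => td j = D) := Finset.max'_mem _ _
  rw [Finset.mem_filter] at hjs_mem
  obtain ⟨hjsS, hjsD⟩ := hjs_mem
  have ha_ne : f.coeff jstar ≠ 0 := Polynomial.mem_support_iff.mp hjsS
  refine ⟨MvPolynomial.homogeneousComponent D (f.coeff jstar), ?_, f.natDegree + 1, ?_⟩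
  · -- nonzero
    have hsup : (f.coeff jstar).support.Nonempty := by
      rw [Finset.nonempty_iff_ne_empty, Ne, MvPolynomial.support_eq_empty]; exact ha_ne
    obtain ⟨μ, hμ, hμd⟩ := Finset.exists_mem_eq_sup (f.coeff jstar).support hsup
      (fun s => s.sum fun _ e => e)
    intro h0
    have h1 := congrArg (MvPolynomial.coeff μ) h0
    rw [MvPolynomial.coeff_homogeneousComponent, MvPolynomial.coeff_zero] at h1
    have hdeg : μ.degree = D := by
      rw [← hjsD]
      change μ.degree = (f.coeff jstar).totalDegree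
      rw [MvPolynomial.totalDegree]
      exact hμd.symm
    rw [if_pos hdeg] at h1
    exact (MvPolynomial.mem_support_iff.mp hμ) h1
  · intro s hs K _ _ g hg
    set N := s * (m + 1) with hN
    have hNs : s ≤ N := by rw [hN]; exact Nat.le_mul_of_pos_right _ (by omega)
    have hN1 : 1 ≤ N := by omega
    have hNf : f.natDegree < N := by omega
    refine ⟨MvPolynomial.aeval g (MvPolynomial.homogeneousComponent D (f.coeff jstar)), hg, ?_⟩
    have hF : Polynomial.eval₂ (Φ (k := k) g N).toRingHom Polynomial.X f
        = ∑ j ∈ f.support, Φ g N (f.coeff j) * Polynomial.X ^ j := by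
      rw [Polynomial.eval₂_eq_sum, Polynomial.sum_def]
      rfl
    change (Polynomial.eval₂ (Φ (k := k) g N).toRingHom Polynomial.X f).leadingCoeff = _ ∧
      f.natDegree ≤ (Polynomial.eval₂ (Φ (k := k) g N).toRingHom Polynomial.X f).natDegree
    rw [hF]
    set top := N * D + jstar with htop
    have hterm : ∀ j ∈ f.support,
        (Φ g N (f.coeff j) * (Polynomial.X : Polynomial (MvPolynomial (Fin r) K)) ^ j).natDegree
          ≤ N * td j + j := by
      intro j _
      exact natDegree_mul_le_of_le (degC_Φ g N hN1 (f.coeff j) (td j) le_rfl).1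
        (natDegree_X_pow_le j)
    have htdle : ∀ j ∈ f.support, td j ≤ D := fun j hj => Finset.le_sup (f := td) hj
    have hjle : ∀ j ∈ f.support, j ≤ f.natDegree := fun j hj => Polynomial.le_natDegree_of_mem_supp j hj
    have hlt : ∀ j ∈ f.support, j ≠ jstar → N * td j + j < top := by
      intro j hj hne
      rcases lt_or_eq_of_le (htdle j hj) with h1 | h1
      · have h2 : N * td j + N ≤ N * D := by
          have : td j + 1 ≤ D := h1
          calc N * td j + N = N * (td j + 1) := by ring
            _ ≤ N * D := Nat.mul_le_mul_left _ this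
        have := hjle j hj
        omega
      · have hmem : j ∈ f.support.filter (fun j => td j = D) := by
          rw [Finset.mem_filter]; exact ⟨hj, h1⟩
        have hle : j ≤ jstar := Finset.le_max' _ j hmem
        have : j < jstar := lt_of_le_of_ne hle hne
        rw [h1]; omega
    have hdegle : (∑ j ∈ f.support, Φ g N (f.coeff j) *
        (Polynomial.X : Polynomial (MvPolynomial (Fin r) K)) ^ j).natDegree ≤ top := by
      apply natDegree_sum_le_of_forall_le
      intro j hj
      by_cases hne : j = jstar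
      · subst hne
        refine (hterm _ hj).trans ?_
        rw [htop, hjsD]
      · exact (hterm j hj).trans (hlt j hj hne).le
    have hcoeff : (∑ j ∈ f.support, Φ g N (f.coeff j) *
        (Polynomial.X : Polynomial (MvPolynomial (Fin r) K)) ^ j).coeff top
        = MvPolynomial.C (MvPolynomial.aeval g
          (MvPolynomial.homogeneousComponent D (f.coeff jstar))) := by
      rw [finsetSum_coeff, Finset.sum_eq_single jstar]
      · rw [htop, coeff_mul_X_pow]
        have := (degC_Φ g N hN1 (f.coeff jstar) D (by rw [← hjsD])).2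
        rw [this, MvPolynomial.algebraMap_eq]
      · intro j hj hne
        exact coeff_eq_zero_of_natDegree_lt (lt_of_le_of_lt (hterm j hj) (hlt j hj hne))
      · intro h; exact absurd hjsS h
    have hne0 : (∑ j ∈ f.support, Φ g N (f.coeff j) *
        (Polynomial.X : Polynomial (MvPolynomial (Fin r) K)) ^ j).coeff top ≠ 0 := by
      rw [hcoeff]
      intro h0
      exact hg (MvPolynomial.C_injective (Fin r) K (by rw [h0, map_zero]))
    have hnat := natDegree_eq_of_le_of_coeff_ne_zero hdegle hne0
    refine ⟨by rw [Polynomial.leadingCoeff, hnat, hcoeff], ?_⟩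
    rw [hnat, htop]
    rcases Nat.eq_zero_or_pos D with hD0 | hD0
    · have hmem : f.natDegree ∈ f.support.filter (fun j => td j = D) := by
        rw [Finset.mem_filter]
        have h1 : f.natDegree ∈ f.support := Polynomial.natDegree_mem_support_of_nonzero hf
        exact ⟨h1, le_antisymm (htdle _ h1) (by omega)⟩
      have := Finset.le_max' _ _ hmem
      omega
    · have : N ≤ N * D := Nat.le_mul_of_pos_right _ hD0
      omega

theorem main15078
    {k : Type u} [Field k] (r m : ℕ)
    (f : Polynomial (MvPolynomial (Fin r) k)) (hf : f ≠ 0) :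
    ∃ h : MvPolynomial (Fin r) k, h ≠ 0 ∧ ∃ s₀ : ℕ, ∀ s : ℕ, s₀ ≤ s →
      ∀ (K : Type v) [Field K] [Algebra k K] (g : Fin r → K), MvPolynomial.aeval g h ≠ 0 →
        ∃ c : K, c ≠ 0 ∧
          (Polynomial.eval₂ (MvPolynomial.aeval (fun i : Fin r => Polynomial.C (MvPolynomial.X i) + Polynomial.C (MvPolynomial.C (g i)) * Polynomial.X ^ (s * (m + 1))) : MvPolynomial (Fin r) k →ₐ[k] Polynomial (MvPolynomial (Fin r) K)).toRingHom Polynomial.X f).leadingCoeff = MvPolynomial.C c := by
  obtain ⟨h, hh, s₀, H⟩ := core15078.{u, v} r m f hf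
  refine ⟨h, hh, s₀, fun s hs K _ _ g hg => ?_⟩
  obtain ⟨c, hc, h1, -⟩ := H s hs K g hg
  exact ⟨c, hc, h1⟩

end H5MovLem
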