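import Mathlib
import Groth.Agent.Lib.Helper5.Misc.MovLemB

set_option autoImplicit false
universe u v

namespace H5MovLem

open Polynomial

/-- a polynomial over a domain whose leading coefficient is a unit and whose degree is positive:
finite quotient and injective structure map. -/
theorem finite_and_injective {A : Type*} [CommRing A] [IsDomain A] (F : Polynomial A)
    (hu : IsUnit F.leadingCoeff) (hdeg : 1 ≤ F.natDegree) :
    Module.Finite A (Polynomial A ⧸ Ideal.span {F}) ∧
      Function.Injective ((Ideal.Quotient.mk (Ideal.span {F})).comp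
        (algebraMap A (Polynomial A))) := by
  constructor
  · obtain ⟨u, hu'⟩ := hu
    set G : Polynomial A := Polynomial.C (↑u⁻¹ : A) * F with hG
    have hGm : G.Monic := by
      rw [Polynomial.Monic, hG, Polynomial.leadingCoeff_mul, Polynomial.leadingCoeff_C, ← hu']
      simp
    have hspan : Ideal.span {G} = Ideal.span {F} := by
      rw [hG]
      exact Ideal.span_singleton_mul_left_unit
        (Polynomial.isUnit_C.mpr (Units.isUnit u⁻¹)) F
    haveI := hGm.finite_quotient
    exact Module.Finite.equiv (Ideal.quotientEquivAlgOfEq A hspan).toLinearEquiv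
  · have h := AdjoinRoot.of.injective_of_degree_ne_zero (f := F) (by
      intro h0
      have := Polynomial.natDegree_eq_zero_iff_degree_le_zero.mpr h0.le
      omega)
    exact h

theorem main15079
    {k : Type u} [Field k] (r m : ℕ)
    (f : Polynomial (MvPolynomial (Fin r) k)) (hirr : Irreducible f) (h0 : IsUnit (f.coeff 0)) :
    ∃ h : MvPolynomial (Fin r) k, h ≠ 0 ∧ ∃ s₀ : ℕ, ∀ s : ℕ, s₀ ≤ s →
      ∀ (K : Type v) [Field K] [Algebra k K] (g : Fin r → K), MvPolynomial.aeval g h ≠ 0 →
        ∀ F : Polynomial (MvPolynomial (Fin r) K),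
          F = Polynomial.eval₂ (MvPolynomial.aeval (fun i : Fin r => Polynomial.C (MvPolynomial.X i) + Polynomial.C (MvPolynomial.C (g i)) * Polynomial.X ^ (s * (m + 1))) : MvPolynomial (Fin r) k →ₐ[k] Polynomial (MvPolynomial (Fin r) K)).toRingHom Polynomial.X f →
          Module.Finite (MvPolynomial (Fin r) K) (Polynomial (MvPolynomial (Fin r) K) ⧸ Ideal.span {F}) ∧
          Function.Injective ((Ideal.Quotient.mk (Ideal.span {F})).comp (algebraMap (MvPolynomial (Fin r) K) (Polynomial (MvPolynomial (Fin r) K)))) := by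
  have hf : f ≠ 0 := hirr.ne_zero
  have hdeg : 1 ≤ f.natDegree := by
    by_contra hlt
    have h1 : f.natDegree = 0 := by omega
    have h2 : f = Polynomial.C (f.coeff 0) := Polynomial.eq_C_of_natDegree_eq_zero h1
    apply hirr.not_isUnit
    rw [h2]
    exact Polynomial.isUnit_C.mpr h0
  obtain ⟨h, hh, s₀, H⟩ := core15078.{u, v} r m f hf
  refine ⟨h, hh, s₀, fun s hs K _ _ g hg F hF => ?_⟩
  obtain ⟨c, hc, h1, h2⟩ := H s hs K g hg
  rw [← hF] at h1 h2
  apply finite_and_injective F
  · rw [h1]
    exact (IsUnit.mk0 c hc).map MvPolynomial.C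
  · omega

end H5MovLem
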