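import Mathlib.RingTheory.Ideal.Quotient.Operations
import Mathlib.LinearAlgebra.FiniteDimensional.Lemmas
import Mathlib.RingTheory.Finiteness.Quotient
import Mathlib.LinearAlgebra.Dimension.Constructions

set_option autoImplicit false

theorem aux11049
    (k R : Type*) [Field k] [CommRing R]
    [IsDomain R] [Algebra k R] (S : Subalgebra k R) (x : S) (hx : (x : R) ≠ 0)
    [Module.Finite k (R ⧸ Subalgebra.toSubmodule S)]
    [Module.Finite k (R ⧸ Ideal.span {(x : R)})] :
    Module.finrank k (R ⧸ Ideal.span {(x : R)}) = Module.finrank k (S ⧸ Ideal.span {x}) := by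
  -- multiplication by x as a k-linear map
  let mx : R →ₗ[k] R := LinearMap.mulRight k (x : R)
  have hmx : ∀ r, mx r = r * x := fun r => rfl
  let B₁ : Submodule k R := Subalgebra.toSubmodule S
  let B₂ : Submodule k R := (Ideal.span {(x : R)}).restrictScalars k
  let A : Submodule k R := B₁.map mx
  have hAB₁ : A ≤ B₁ := by
    rintro _ ⟨s, hs, rfl⟩
    exact S.mul_mem hs x.2
  have hAB₂ : A ≤ B₂ := by
    rintro _ ⟨s, hs, rfl⟩
    show s * (x : R) ∈ Ideal.span {(x : R)}
    exact Ideal.mul_mem_left _ _ (Ideal.subset_span rfl)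
  -- the two factor maps
  let f₁ : (R ⧸ A) →ₗ[k] (R ⧸ B₁) := Submodule.factor hAB₁
  let f₂ : (R ⧸ A) →ₗ[k] (R ⧸ B₂) := Submodule.factor hAB₂
  have hf₁ : Function.Surjective f₁ := Submodule.factor_surjective hAB₁
  have hf₂ : Function.Surjective f₂ := Submodule.factor_surjective hAB₂
  -- μ : R → R/A, r ↦ [r x]
  let μ : R →ₗ[k] (R ⧸ A) := A.mkQ ∘ₗ mx
  have hμker : LinearMap.ker μ = B₁ := by
    ext r
    rw [LinearMap.mem_ker, LinearMap.comp_apply, Submodule.mkQ_apply,
      Submodule.Quotient.mk_eq_zero]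
    constructor
    · rintro ⟨s, hs, hsr⟩
      have : s = r := mul_right_cancel₀ hx (by rw [← hmx, ← hmx]; exact hsr)
      rw [← this]; exact hs
    · intro hr
      exact ⟨r, hr, rfl⟩
  have hμrange : LinearMap.range μ = LinearMap.ker f₂ := by
    ext q
    constructor
    · rintro ⟨r, rfl⟩
      rw [LinearMap.mem_ker]
      show Submodule.factor hAB₂ (A.mkQ (mx r)) = 0
      rw [Submodule.factor_mk, Submodule.mkQ_apply, Submodule.Quotient.mk_eq_zero]
      show r * (x : R) ∈ Ideal.span {(x : R)}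
      exact Ideal.mul_mem_left _ _ (Ideal.subset_span rfl)
    · intro hq
      obtain ⟨r, rfl⟩ := A.mkQ_surjective q
      rw [LinearMap.mem_ker] at hq
      have h1 : Submodule.factor hAB₂ (A.mkQ r) = 0 := hq
      rw [Submodule.factor_mk, Submodule.mkQ_apply, Submodule.Quotient.mk_eq_zero] at h1
      have h2 : r ∈ Ideal.span {(x : R)} := h1
      obtain ⟨c, rfl⟩ := Ideal.mem_span_singleton'.1 h2
      exact ⟨c, rfl⟩
  -- ν : S → R/A
  let ν : S →ₗ[k] (R ⧸ A) := A.mkQ ∘ₗ S.val.toLinearMap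
  have hνker : LinearMap.ker ν = (Ideal.span {x}).restrictScalars k := by
    ext s
    rw [LinearMap.mem_ker, LinearMap.comp_apply, Submodule.mkQ_apply,
      Submodule.Quotient.mk_eq_zero, Submodule.restrictScalars_mem, Ideal.mem_span_singleton']
    constructor
    · rintro ⟨s', hs', hss'⟩
      refine ⟨⟨s', hs'⟩, Subtype.ext ?_⟩
      exact hss'
    · rintro ⟨c, hc⟩
      exact ⟨c, c.2, congrArg Subtype.val hc⟩
  have hνrange : LinearMap.range ν = LinearMap.ker f₁ := by
    ext q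
    constructor
    · rintro ⟨s, rfl⟩
      rw [LinearMap.mem_ker]
      show Submodule.factor hAB₁ (A.mkQ (s : R)) = 0
      rw [Submodule.factor_mk, Submodule.mkQ_apply, Submodule.Quotient.mk_eq_zero]
      exact s.2
    · intro hq
      obtain ⟨r, rfl⟩ := A.mkQ_surjective q
      rw [LinearMap.mem_ker] at hq
      have h1 : Submodule.factor hAB₁ (A.mkQ r) = 0 := hq
      rw [Submodule.factor_mk, Submodule.mkQ_apply, Submodule.Quotient.mk_eq_zero] at h1
      exact ⟨⟨r, h1⟩, rfl⟩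
  -- equivalences
  let e₁ : (R ⧸ B₁) ≃ₗ[k] LinearMap.ker f₂ :=
    (Submodule.quotEquivOfEq _ _ hμker).symm ≪≫ₗ μ.quotKerEquivRange ≪≫ₗ
      LinearEquiv.ofEq _ _ hμrange
  let e₂ : (S ⧸ Ideal.span {x}) ≃ₗ[k] LinearMap.ker f₁ :=
    (Submodule.Quotient.restrictScalarsEquiv k (Ideal.span {x})).symm ≪≫ₗ
      (Submodule.quotEquivOfEq _ _ hνker).symm ≪≫ₗ ν.quotKerEquivRange ≪≫ₗ
      LinearEquiv.ofEq _ _ hνrange
  let e₃ : (R ⧸ B₂) ≃ₗ[k] (R ⧸ Ideal.span {(x : R)}) :=
    Submodule.Quotient.restrictScalarsEquiv k (Ideal.span {(x : R)})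
  -- finiteness
  have hfin₂ : Module.Finite k (R ⧸ B₂) := Module.Finite.equiv e₃.symm
  have hfinker : Module.Finite k (LinearMap.ker f₂) := Module.Finite.equiv e₁
  have hfinQ' : Module.Finite k ((R ⧸ A) ⧸ LinearMap.ker f₂) :=
    Module.Finite.equiv (f₂.quotKerEquivOfSurjective hf₂).symm
  have hfinQ : Module.Finite k (R ⧸ A) := Module.Finite.of_submodule_quotient (LinearMap.ker f₂)
  -- rank–nullity twice
  have r₁ := LinearMap.finrank_range_add_finrank_ker f₁
  have r₂ := LinearMap.finrank_range_add_finrank_ker f₂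
  rw [LinearMap.range_eq_top.2 hf₁, finrank_top] at r₁
  rw [LinearMap.range_eq_top.2 hf₂, finrank_top] at r₂
  have h₁ : Module.finrank k (LinearMap.ker f₂) = Module.finrank k (R ⧸ B₁) := e₁.finrank_eq.symm
  have h₂ : Module.finrank k (LinearMap.ker f₁) = Module.finrank k (S ⧸ Ideal.span {x}) :=
    e₂.finrank_eq.symm
  have h₃ : Module.finrank k (R ⧸ B₂) = Module.finrank k (R ⧸ Ideal.span {(x : R)}) :=
    e₃.finrank_eq
  omega
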