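import Mathlib.RingTheory.Polynomial.Cyclotomic.Basic
import Mathlib.RingTheory.RootsOfUnity.Complex

set_option autoImplicit false

open Polynomial

/-- Products over `n`-th roots of unity via a primitive root. -/
theorem prod_nthRootsFinset_eq_prod_range {R M : Type*} [CommRing R] [IsDomain R] [CommMonoid M]
    {n : ℕ} {ω : R} (hω : IsPrimitiveRoot ω n) (F : R → M) :
    ∏ θ ∈ nthRootsFinset n (1 : R), F θ = ∏ j ∈ Finset.range n, F (ω ^ j) := by
  classical
  have h1 : nthRootsFinset n (1 : R) = (Finset.range n).image (fun j => ω ^ j) := by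
    rw [nthRootsFinset_def, hω.nthRoots_eq (one_pow n)]
    ext x
    simp
  rw [h1, Finset.prod_image]
  intro i hi j hj hij
  exact hω.pow_inj (Finset.mem_range.1 hi) (Finset.mem_range.1 hj) hij

/-- Periodic products. -/
theorem prod_range_mul_of_periodic {M : Type*} [CommMonoid M] (G : ℕ → M) (m : ℕ)
    (hG : ∀ j, G (j + m) = G j) (e : ℕ) :
    ∏ j ∈ Finset.range (e * m), G j = (∏ b ∈ Finset.range m, G b) ^ e := by
  induction e with
  | zero => simp
  | succ e ih =>
    have hG' : ∀ a j, G (a * m + j) = G j := by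
      intro a
      induction a with
      | zero => intro j; simp
      | succ a iha => intro j; rw [add_mul, one_mul, add_assoc, add_comm m j, ← add_assoc, hG, iha]
    rw [add_mul, one_mul, Finset.prod_range_add, ih, pow_succ]
    congr 1
    exact Finset.prod_congr rfl (fun j _ => hG' e j)

theorem aux11043 (n d : ℕ) (hn : 0 < n) (hd : 0 < d) :
    ((1 : Polynomial ℂ) - Polynomial.X ^ (n * d / Nat.gcd n d)) ^ Nat.gcd n d =
      ∏ θ ∈ Polynomial.nthRootsFinset n (1 : ℂ),
        (1 - Polynomial.C (θ ^ d) * Polynomial.X ^ d) := by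
  set e := Nat.gcd n d with he
  have he0 : e ≠ 0 := Nat.gcd_ne_zero_left hn.ne'
  set m := n / e with hm
  have hnem : n = e * m := (Nat.mul_div_cancel' (Nat.gcd_dvd_left n d)).symm
  have hm0 : 0 < m := Nat.div_pos (Nat.le_of_dvd hn (Nat.gcd_dvd_left n d)) (Nat.pos_of_ne_zero he0)
  obtain ⟨ω, hω⟩ : ∃ ω : ℂ, IsPrimitiveRoot ω n := ⟨_, Complex.isPrimitiveRoot_exp n hn.ne'⟩
  -- ζ = ω^d is a primitive m-th root
  have hζ : IsPrimitiveRoot (ω ^ d) m := by
    have h1 : IsPrimitiveRoot (ω ^ e) m := hω.pow_of_dvd he0 (Nat.gcd_dvd_left n d)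
    have h2 : d = e * (d / e) := (Nat.mul_div_cancel' (Nat.gcd_dvd_right n d)).symm
    have h3 : (d / e).Coprime m := (Nat.coprime_div_gcd_div_gcd (Nat.gcd_pos_of_pos_left d hn)).symm
    have := h1.pow_of_coprime (d / e) h3
    rwa [← pow_mul, ← h2] at this
  have hζC : IsPrimitiveRoot (C (ω ^ d) : ℂ[X]) m := hζ.map_of_injective C_injective
  rw [prod_nthRootsFinset_eq_prod_range hω]
  have hstep : ∀ j : ℕ, (1 - C ((ω ^ j) ^ d) * X ^ d : ℂ[X]) = 1 - (C (ω ^ d)) ^ j * X ^ d := by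
    intro j
    rw [← pow_mul, mul_comm j d, pow_mul, C_pow]
  rw [Finset.prod_congr rfl (fun j _ => hstep j)]
  conv_rhs => rw [hnem]
  rw [prod_range_mul_of_periodic (fun j => (1 - (C (ω ^ d)) ^ j * X ^ d : ℂ[X])) m
    (fun j => by rw [pow_add, hζC.pow_eq_one, mul_one]) e]
  congr 1
  rw [← prod_nthRootsFinset_eq_prod_range hζC (fun μ => (1 - μ * X ^ d : ℂ[X])),
    ← hζC.pow_sub_pow_eq_prod_sub_mul 1 (X ^ d) hm0, one_pow, ← pow_mul]
  congr 2
  rw [hm, mul_comm n d, Nat.mul_div_assoc d (Nat.gcd_dvd_left n d)]
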